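import Cfsg.Agent.CoOneUniq.Enum.CoverDefs

/-! Generated by tools/dcoset/emit.py: forests. -/

set_option Elab.async false
set_option maxRecDepth 100000

namespace Cfsg.Agent.CoOneUniq.Enum

open Cfsg.Agent.DCoset Cfsg.Agent.CosetCert

theorem point_5_0 : allFrom (WalkCover.checkPoint cover steps rules tab 5) 0 600 = true := by
  decide +kernel

theorem point_5_1 : allFrom (WalkCover.checkPoint cover steps rules tab 5) 600 600 = true := by
  decide +kernel

theorem point_5_2 : allFrom (WalkCover.checkPoint cover steps rules tab 5) 1200 600 = true := by
  decide +kernel

theorem point_5_3 : allFrom (WalkCover.checkPoint cover steps rules tab 5) 1800 600 = true := by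
  decide +kernel

theorem point_5_4 : allFrom (WalkCover.checkPoint cover steps rules tab 5) 2400 600 = true := by
  decide +kernel

theorem point_5_5 : allFrom (WalkCover.checkPoint cover steps rules tab 5) 3000 542 = true := by
  decide +kernel


end Cfsg.Agent.CoOneUniq.Enum
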