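import Cfsg.Agent.CoOneUniq.Enum.StepDefs

/-! Generated by tools/dcoset/emit.py: steps are justified. -/

set_option Elab.async false
set_option maxRecDepth 100000

namespace Cfsg.Agent.CoOneUniq.Enum

open Cfsg.Agent.DCoset Cfsg.Agent.CosetCert

theorem steps_12 : allFrom (Steps.check steps rules tab) 1800 150 = true := by
  decide +kernel

theorem steps_13 : allFrom (Steps.check steps rules tab) 1950 150 = true := by
  decide +kernel

theorem steps_14 : allFrom (Steps.check steps rules tab) 2100 150 = true := by
  decide +kernel

theorem steps_15 : allFrom (Steps.check steps rules tab) 2250 150 = true := by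
  decide +kernel

theorem steps_16 : allFrom (Steps.check steps rules tab) 2400 150 = true := by
  decide +kernel

theorem steps_17 : allFrom (Steps.check steps rules tab) 2550 150 = true := by
  decide +kernel


end Cfsg.Agent.CoOneUniq.Enum
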