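import Cfsg.Agent.CoOneUniq.Enum.CheckSteps0
import Cfsg.Agent.CoOneUniq.Enum.CheckSteps1
import Cfsg.Agent.CoOneUniq.Enum.CheckSteps2
import Cfsg.Agent.CoOneUniq.Enum.CheckSteps3
import Cfsg.Agent.CoOneUniq.Enum.CheckTr0
import Cfsg.Agent.CoOneUniq.Enum.CheckTr1
import Cfsg.Agent.CoOneUniq.Enum.CheckTr2
import Cfsg.Agent.CoOneUniq.Enum.CheckNode0_0
import Cfsg.Agent.CoOneUniq.Enum.CheckChain0
import Cfsg.Agent.CoOneUniq.Enum.CheckNode1_0
import Cfsg.Agent.CoOneUniq.Enum.CheckChain1
import Cfsg.Agent.CoOneUniq.Enum.CheckNode2_0
import Cfsg.Agent.CoOneUniq.Enum.CheckChain2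
import Cfsg.Agent.CoOneUniq.Enum.CheckNode3_0
import Cfsg.Agent.CoOneUniq.Enum.CheckChain3
import Cfsg.Agent.CoOneUniq.Enum.CheckNode4_0
import Cfsg.Agent.CoOneUniq.Enum.CheckChain4
import Cfsg.Agent.CoOneUniq.Enum.CheckNode5_0
import Cfsg.Agent.CoOneUniq.Enum.CheckChain5
import Cfsg.Agent.CoOneUniq.Enum.CheckCover

/-! Generated by tools/dcoset/emit.py: assembled certificate. -/

set_option Elab.async false
set_option maxRecDepth 100000

namespace Cfsg.Agent.CoOneUniq.Enum

open Cfsg.Agent.DCoset Cfsg.Agent.CosetCert

theorem steps_ok : ∀ s, s < steps.len → Steps.check steps rules tab s = true := by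
  intro s hs
  have h : allFrom (Steps.check steps rules tab) 0 3467 = true :=
    (allFrom_append (n := 17) 3450 (allFrom_append (n := 150) 3300 (allFrom_append (n := 150) 3150 (allFrom_append (n := 150) 3000 (allFrom_append (n := 150) 2850 (allFrom_append (n := 150) 2700 (allFrom_append (n := 150) 2550 (allFrom_append (n := 150) 2400 (allFrom_append (n := 150) 2250 (allFrom_append (n := 150) 2100 (allFrom_append (n := 150) 1950 (allFrom_append (n := 150) 1800 (allFrom_append (n := 150) 1650 (allFrom_append (n := 150) 1500 (allFrom_append (n := 150) 1350 (allFrom_append (n := 150) 1200 (allFrom_append (n := 150) 1050 (allFrom_append (n := 150) 900 (allFrom_append (n := 150) 750 (allFrom_append (n := 150) 600 (allFrom_append (n := 150) 450 (allFrom_append (n := 150) 300 (allFrom_append (n := 150) 150 steps_0 steps_1) steps_2) steps_3) steps_4) steps_5) steps_6) steps_7) steps_8) steps_9) steps_10) steps_11) steps_12) steps_13) steps_14) steps_15) steps_16) steps_17) steps_18) steps_19) steps_20) steps_21) steps_22) steps_23)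
  exact allFrom_all h hs

theorem node_src : ∀ j, 1 ≤ j → j < steps.nNode → steps.nodeSrc j < j := fun j h1 h2 =>
  Nat.ble_eq.mp ((allFrom_iff _ _ _).1 src_all j h1 (by change j < 6 at h2; omega))

/-- The sum of the suborbit lengths. -/
theorem idx_sum : ((List.range cover.nLive).map cover.idx).sum = 8292375 := by
  decide +kernel

theorem valid : cover.Valid steps rules tab 501397585920 where
  nP_pos := by decide
  nG_le := by decide
  live_zero := ⟨by decide, by decide +kernel⟩
  u_ok l hl := allFrom_all u_all hl
  tr_ok c hc := allFrom_all ((allFrom_append (n := 42) 3500 (allFrom_append (n := 250) 3250 (allFrom_append (n := 250) 3000 (allFrom_append (n := 250) 2750 (allFrom_append (n := 250) 2500 (allFrom_append (n := 250) 2250 (allFrom_append (n := 250) 2000 (allFrom_append (n := 250) 1750 (allFrom_append (n := 250) 1500 (allFrom_append (n := 250) 1250 (allFrom_append (n := 250) 1000 (allFrom_append (n := 250) 750 (allFrom_append (n := 250) 500 (allFrom_append (n := 250) 250 tr_0 tr_1) tr_2) tr_3) tr_4) tr_5) tr_6) tr_7) tr_8) tr_9) tr_10) tr_11) tr_12) tr_13)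 tr_14) : allFrom (WalkCover.checkTr cover tab) 0 3542 = true) hc
  stab_ok m a hm ha := allFrom_all (allFrom_all stab_all hm : allFrom _ 0 (nStab m) = true) ha
  point_ok m c hm hc := by
    change m < 6 at hm
    interval_cases m
    · exact allFrom_all ((allFrom_append (n := 542) 3000 (allFrom_append (n := 600) 2400 (allFrom_append (n := 600) 1800 (allFrom_append (n := 600) 1200 (allFrom_append (n := 600) 600 point_0_0 point_0_1) point_0_2) point_0_3) point_0_4) point_0_5) : allFrom (WalkCover.checkPoint cover steps rules tab 0) 0 3542 = true) hc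
    · exact allFrom_all ((allFrom_append (n := 542) 3000 (allFrom_append (n := 600) 2400 (allFrom_append (n := 600) 1800 (allFrom_append (n := 600) 1200 (allFrom_append (n := 600) 600 point_1_0 point_1_1) point_1_2) point_1_3) point_1_4) point_1_5) : allFrom (WalkCover.checkPoint cover steps rules tab 1) 0 3542 = true) hc
    · exact allFrom_all ((allFrom_append (n := 542) 3000 (allFrom_append (n := 600) 2400 (allFrom_append (n := 600) 1800 (allFrom_append (n := 600) 1200 (allFrom_append (n := 600) 600 point_2_0 point_2_1) point_2_2) point_2_3) point_2_4) point_2_5) : allFrom (WalkCover.checkPoint cover steps rules tab 2) 0 3542 = true) hc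
    · exact allFrom_all ((allFrom_append (n := 542) 3000 (allFrom_append (n := 600) 2400 (allFrom_append (n := 600) 1800 (allFrom_append (n := 600) 1200 (allFrom_append (n := 600) 600 point_3_0 point_3_1) point_3_2) point_3_3) point_3_4) point_3_5) : allFrom (WalkCover.checkPoint cover steps rules tab 3) 0 3542 = true) hc
    · exact allFrom_all ((allFrom_append (n := 542) 3000 (allFrom_append (n := 600) 2400 (allFrom_append (n := 600) 1800 (allFrom_append (n := 600) 1200 (allFrom_append (n := 600) 600 point_4_0 point_4_1) point_4_2) point_4_3) point_4_4) point_4_5) : allFrom (WalkCover.checkPoint cover steps rules tab 4) 0 3542 = true) hc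
    · exact allFrom_all ((allFrom_append (n := 542) 3000 (allFrom_append (n := 600) 2400 (allFrom_append (n := 600) 1800 (allFrom_append (n := 600) 1200 (allFrom_append (n := 600) 600 point_5_0 point_5_1) point_5_2) point_5_3) point_5_4) point_5_5) : allFrom (WalkCover.checkPoint cover steps rules tab 5) 0 3542 = true) hc
  chain_gen m l a hm hl ha := by
    change m < 6 at hm
    interval_cases m
    · exact allFrom_all (allFrom_all gen_0 hl : _) ha
    · exact allFrom_all (allFrom_all gen_1 hl : _) ha
    · exact allFrom_all (allFrom_all gen_2 hl : _) ha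
    · exact allFrom_all (allFrom_all gen_3 hl : _) ha
    · exact allFrom_all (allFrom_all gen_4 hl : _) ha
    · exact allFrom_all (allFrom_all gen_5 hl : _) ha
  chain_pt m l j hm hl hj := by
    change m < 6 at hm
    interval_cases m
    · exact allFrom_all (allFrom_all pt_0 hl : _) hj
    · exact allFrom_all (allFrom_all pt_1 hl : _) hj
    · exact allFrom_all (allFrom_all pt_2 hl : _) hj
    · exact allFrom_all (allFrom_all pt_3 hl : _) hj
    · exact allFrom_all (allFrom_all pt_4 hl : _) hj
    · exact allFrom_all (allFrom_all pt_5 hl : _) hj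
  chain_mem m l a hm hl ha := by
    refine ⟨chOff (m * 5 + l) + a, ?_, rfl⟩
    have h := Nat.ble_eq.mp (allFrom_all (allFrom_all bounds_all hm : allFrom _ 0 5 = true) hl)
    change a < chCnt (m * 5 + l) at ha
    change chOff (m * 5 + l) + chCnt (m * 5 + l) ≤ nStab m at h
    change chOff (m * 5 + l) + a < nStab m
    omega
  idx_eq := by
    intro m hm
    change m < 6 at hm
    interval_cases m
    · decide +kernel
    · decide +kernel
    · decide +kernel
    · decide +kernel
    · decide +kernel
    · decide +kernel

end Cfsg.Agent.CoOneUniq.Enum
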