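import Cfsg.Agent.CoOneUniq.Enum.CoverDefs

/-! Generated by tools/dcoset/emit.py: chains. -/

set_option Elab.async false
set_option maxRecDepth 100000

namespace Cfsg.Agent.CoOneUniq.Enum

open Cfsg.Agent.DCoset Cfsg.Agent.CosetCert

theorem gen_2 : allFrom (fun l => allFrom (QModel.checkGen tab (chainOf 2) l) 0 ((chainOf 2).nGen l)) 0 5 = true := by
  decide +kernel

theorem pt_2 : allFrom (fun l => allFrom (QModel.checkPt tab (chainOf 2) l) 0 ((chainOf 2).size l)) 0 5 = true := by
  decide +kernel

end Cfsg.Agent.CoOneUniq.Enum
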