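import Cfsg.Agent.CoOneUniq.Model

/-! Generated by tools/co1dc: the letters as monomial elements. -/

set_option autoImplicit false
set_option maxRecDepth 100000

namespace Cfsg.Agent.CoOneUniq.Enum

/-- Letter 0. -/
def let0 : MLet :=
  ⟨[19, 8, 17, 21, 10, 18, 12, 7, 1, 9, 4, 11, 6, 13, 14, 20, 16, 2, 5, 0, 15, 3, 22, 23], [19, 8, 17, 21, 10, 18, 12, 7, 1, 9, 4, 11, 6, 13, 14, 20, 16, 2, 5, 0, 15, 3, 22, 23], 0,
    by decide +kernel, by decide +kernel, by decide +kernel, by decide +kernel, by decide +kernel⟩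

/-- Letter 1. -/
def let1 : MLet :=
  ⟨[0, 1, 8, 11, 4, 5, 6, 12, 2, 16, 17, 3, 7, 13, 14, 21, 9, 10, 22, 19, 23, 15, 18, 20], [0, 1, 8, 11, 4, 5, 6, 12, 2, 16, 17, 3, 7, 13, 14, 21, 9, 10, 22, 19, 23, 15, 18, 20], 0,
    by decide +kernel, by decide +kernel, by decide +kernel, by decide +kernel, by decide +kernel⟩

/-- Letter 2. -/
def let2 : MLet :=
  ⟨[19, 8, 21, 4, 3, 10, 16, 12, 1, 14, 5, 15, 7, 20, 9, 11, 6, 18, 17, 0, 13, 2, 23, 22], [19, 8, 21, 4, 3, 10, 16, 12, 1, 14, 5, 15, 7, 20, 9, 11, 6, 18, 17, 0, 13, 2, 23, 22], 0,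
    by decide +kernel, by decide +kernel, by decide +kernel, by decide +kernel, by decide +kernel⟩

/-- Letter 3. -/
def let3 : MLet :=
  ⟨[11, 1, 2, 21, 4, 5, 23, 9, 20, 7, 10, 0, 13, 12, 14, 15, 16, 18, 17, 22, 8, 3, 19, 6], [11, 1, 2, 21, 4, 5, 23, 9, 20, 7, 10, 0, 13, 12, 14, 15, 16, 18, 17, 22, 8, 3, 19, 6], 0,
    by decide +kernel, by decide +kernel, by decide +kernel, by decide +kernel, by decide +kernel⟩

/-- Letter 4. -/
def let4 : MLet :=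
  ⟨[16, 15, 12, 3, 9, 5, 6, 17, 22, 4, 18, 11, 2, 13, 14, 1, 0, 7, 10, 21, 20, 19, 8, 23], [16, 15, 12, 3, 9, 5, 6, 17, 22, 4, 18, 11, 2, 13, 14, 1, 0, 7, 10, 21, 20, 19, 8, 23], 0,
    by decide +kernel, by decide +kernel, by decide +kernel, by decide +kernel, by decide +kernel⟩

/-- Letter 5. -/
def let5 : MLet :=
  ⟨[0, 1, 2, 3, 4, 5, 6, 7, 8, 9, 10, 11, 12, 13, 14, 15, 16, 17, 18, 19, 20, 21, 22, 23], [0, 1, 2, 3, 4, 5, 6, 7, 8, 9, 10, 11, 12, 13, 14, 15, 16, 17, 18, 19, 20, 21, 22, 23], 9347075,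
    by decide +kernel, by decide +kernel, by decide +kernel, by decide +kernel, by decide +kernel⟩

/-- Letter 6. -/
def let6 : MLet :=
  ⟨[21, 4, 10, 22, 1, 14, 17, 11, 13, 19, 2, 7, 18, 8, 5, 16, 15, 6, 12, 9, 23, 0, 3, 20], [21, 4, 10, 22, 1, 14, 17, 11, 13, 19, 2, 7, 18, 8, 5, 16, 15, 6, 12, 9, 23, 0, 3, 20], 7056347,
    by decide +kernel, by decide +kernel, by decide +kernel, by decide +kernel, by decide +kernel⟩

/-- Letter 7. -/
def let7 : MLet :=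
  ⟨[21, 4, 14, 11, 1, 10, 13, 22, 17, 19, 5, 3, 23, 6, 2, 16, 15, 8, 20, 9, 18, 0, 7, 12], [21, 4, 14, 11, 1, 10, 13, 22, 17, 19, 5, 3, 23, 6, 2, 16, 15, 8, 20, 9, 18, 0, 7, 12], 9720868,
    by decide +kernel, by decide +kernel, by decide +kernel, by decide +kernel, by decide +kernel⟩

/-- Letter 8. -/
def let8 : MLet :=
  ⟨[0, 1, 2, 3, 4, 5, 6, 7, 8, 9, 10, 11, 12, 13, 14, 15, 16, 17, 18, 19, 20, 21, 22, 23], [0, 1, 2, 3, 4, 5, 6, 7, 8, 9, 10, 11, 12, 13, 14, 15, 16, 17, 18, 19, 20, 21, 22, 23], 3216208,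
    by decide +kernel, by decide +kernel, by decide +kernel, by decide +kernel, by decide +kernel⟩

/-- Letter 9. -/
def let9 : MLet :=
  ⟨[18, 17, 7, 9, 11, 10, 12, 21, 8, 22, 16, 14, 6, 19, 4, 13, 2, 15, 0, 23, 20, 5, 3, 1], [18, 23, 16, 22, 14, 21, 12, 2, 8, 3, 5, 4, 6, 15, 11, 17, 10, 1, 0, 13, 20, 7, 9, 19], 6486298,
    by decide +kernel, by decide +kernel, by decide +kernel, by decide +kernel, by decide +kernel⟩

/-- Letter 10. -/
def let10 : MLet :=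
  ⟨[18, 23, 16, 22, 14, 21, 12, 2, 8, 3, 5, 4, 6, 15, 11, 17, 10, 1, 0, 13, 20, 7, 9, 19], [18, 17, 7, 9, 11, 10, 12, 21, 8, 22, 16, 14, 6, 19, 4, 13, 2, 15, 0, 23, 20, 5, 3, 1], 12766162,
    by decide +kernel, by decide +kernel, by decide +kernel, by decide +kernel, by decide +kernel⟩

/-- Letter 11. -/
def let11 : MLet :=
  ⟨[23, 13, 10, 16, 22, 7, 8, 4, 12, 11, 9, 3, 20, 0, 21, 17, 5, 1, 19, 18, 6, 2, 14, 15], [13, 17, 21, 11, 7, 16, 20, 5, 6, 10, 2, 9, 8, 1, 22, 23, 3, 15, 19, 18, 12, 14, 4, 0], 1287910,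
    by decide +kernel, by decide +kernel, by decide +kernel, by decide +kernel, by decide +kernel⟩

/-- Letter 12. -/
def let12 : MLet :=
  ⟨[13, 17, 21, 11, 7, 16, 20, 5, 6, 10, 2, 9, 8, 1, 22, 23, 3, 15, 19, 18, 12, 14, 4, 0], [23, 13, 10, 16, 22, 7, 8, 4, 12, 11, 9, 3, 20, 0, 21, 17, 5, 1, 19, 18, 6, 2, 14, 15], 11768878,
    by decide +kernel, by decide +kernel, by decide +kernel, by decide +kernel, by decide +kernel⟩

/-- The letters. -/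
def lets (g : ℕ) : MLet :=
  [let0, let1, let2, let3, let4, let5, let6, let7, let8, let9, let10, let11, let12].getD g let0

end Cfsg.Agent.CoOneUniq.Enum
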